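import Mathlib
import Cfsg.Agent.H209.PiSpor.Row
import Cfsg.Agent.H209.PiSpor.ToolsV
import Cfsg.Agent.H799.PiBS.Suz
import Cfsg.Agent.H681.NoBadSuz
import Cfsg.Agent.KFacts.SuzSheetM
import Cfsg.Agent.KFacts.SuzInvol
import Cfsg.Agent.KFacts.SuzOut
import Cfsg.Agent.H812.SuzLoc
import Cfsg.Agent.SporRec.G24Suz
import Cfsg.Agent.S1679
import Cfsg.Agent.S1680
import Cfsg.Agent.S1055

/-!
# S4324, sporadic rows: the Suzuki group (helper70)

* involutions (inner and outer): a commutator `y a * a⁻¹` of order 3 (helper799) or 5 (helper681);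
* elements of order 5 (`s = 3`), 7, 13: the simple subgroup `G₂(4)` of index 1782;
* elements of order 11: `N(A₀) = 3⁵ : M₁₁`;
* elements of order 3 (`s = 5`): they are conjugate to elements of `A₀` (`N(A₀) / A₀ = M₁₁`), which commute with an
  involution `z`; `O_{5'}(C(z))` contains no element of order 3.
-/

set_option autoImplicit false
set_option maxRecDepth 100000
set_option exponentiation.threshold 4000

namespace Cfsg.Agent.H70.PiSpor

open Subgroup Cfsg Cfsg.Agent.H216.Pi Cfsg.Agent.H209.PiSpor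

section Gen

variable {K : Type*} [Group K]

/-- some commutator has order divisible by `s` -/
def BadS (s : ℕ) (x : MulAut K) : Prop := ∃ a : K, s ∣ orderOf (x a * a⁻¹)

theorem BadS.conj {s : ℕ} {x : MulAut K} (h : BadS s x) (φ : MulAut K) : BadS s (φ * x * φ⁻¹) := by
  obtain ⟨a, hd⟩ := h
  refine ⟨φ a, ?_⟩
  have e : (φ * x * φ⁻¹) (φ a) * (φ a)⁻¹ = φ (x a * a⁻¹) := by
    rw [MulAut.mul_apply, MulAut.mul_apply, MulAut.inv_apply_self, map_mul, map_inv]
  rw [e, MulEquiv.orderOf_eq]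
  exact hd

/-- conjugate elements -/
theorem BadS.inner {s : ℕ} {a b : K} (h : BadS s (MulAut.conj a)) (hab : IsConj a b) : BadS s (MulAut.conj b) := by
  obtain ⟨g, hg⟩ := isConj_iff.1 hab
  have e : MulAut.conj b = MulAut.conj g * MulAut.conj a * (MulAut.conj g)⁻¹ := by
    rw [← hg, map_mul, map_mul, map_inv]
  rw [e]
  exact h.conj _

/-- a commutator of order divisible by `s` contradicts `FC` -/
theorem BadS.false {s m : ℕ} (hm : 2 ≤ m) (hc : center K = ⊥) {x : MulAut K} (h : BadS s x) (hFC : FC s m x) :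
    False := by
  obtain ⟨a, hd⟩ := h
  have h1 := (H216.Pi.InC.commutator x a⁻¹).mono hm
  refine hFC _ h1 ?_
  rw [orderOf_injective MulAut.conj (conj_inj hc), inv_inv]
  have e : x a * a⁻¹ = a * (a⁻¹ * x a) * a⁻¹ := by group
  rw [e, orderOf_conj'] at hd
  exact hd

theorem two_le_mm (s : ℕ) : 2 ≤ mm s := le_trans (by norm_num) (mm_ge s)

/-- involutory automorphisms -/
theorem NI.of_bad {s : ℕ} (hc : center K = ⊥) (h : ∀ x : MulAut K, orderOf x = 2 → BadS s x) : NI s 2 K := by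
  intro g hg _ hFC
  refine (h (MulAut.conj g) ?_).false (two_le_mm s) hc hFC
  rw [orderOf_injective MulAut.conj (conj_inj hc), hg]

theorem NO.of_bad {s : ℕ} (hc : center K = ⊥) (h : ∀ x : MulAut K, orderOf x = 2 → BadS s x) : NO s K :=
  fun x hx _ _ hFC => (h x hx).false (two_le_mm s) hc hFC

/-- primes not dividing the order -/
theorem NI.of_not_dvd [Finite K] {s p : ℕ} (h : ¬ p ∣ Nat.card K) : NI s p K := by
  intro g hg _ _
  exact h (hg ▸ orderOf_dvd_natCard g)

/-- outer automorphisms of prime order, if `|Out| ≤ 2` -/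
theorem out_two (h : (MulAut.conj : K →* MulAut K).range.index = 1 ∨
    (MulAut.conj : K →* MulAut K).range.index = 2) (x : MulAut K) (hx : (orderOf x).Prime)
    (ho : x ∉ (MulAut.conj : K →* MulAut K).range) : orderOf x = 2 := by
  have hn : (MulAut.conj : K →* MulAut K).range.Normal := Cfsg.Agent.OddHalf.Quat.NoThree.normal_inn (K := K)
  have h2 : x ^ 2 ∈ (MulAut.conj : K →* MulAut K).range := by
    rcases h with h | h
    · rw [Subgroup.index_eq_one.1 h]; trivial
    · have h3 := Subgroup.pow_index_mem (MulAut.conj : K →* MulAut K).range x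
      rwa [h] at h3
  by_contra hne
  obtain ⟨k, hk⟩ := hx.odd_of_ne_two hne
  apply ho
  have e : x = (x ^ 2) ^ (k + 1) := by
    rw [← pow_mul, show 2 * (k + 1) = orderOf x + 1 by omega, pow_succ, pow_orderOf_eq_one, one_mul]
  rw [e]
  exact pow_mem h2 _

end Gen

namespace Suz

open Cfsg.Spor
open Cfsg.Agent.Lib.PermNet Cfsg.Agent.Lib.PermNetOrbit Cfsg.Agent.SporadicRecognition.SuzPhi
  Cfsg.Agent.SporadicRecognition.SuzOrder Cfsg.Agent.SuzThree.Basic Cfsg.Agent.KFacts.SuzRho
  Cfsg.Agent.SuzThree.CentA Cfsg.Agent.SuzThree.QZero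
  Cfsg.Agent.SuzThree.Elementary Cfsg.Agent.SuzThree.NormElts Cfsg.Agent.SuzThree.NormAct
  Cfsg.Agent.BpSpor.SuzThreeCentral
open Cfsg.Agent.KFacts.SuzLFour Cfsg.Agent.KFacts.SuzTwoB

/-- the second outer involution -/
local notation "σσ" => Cfsg.Agent.KFacts.SuzRho.sigma

theorem finSuz : Finite Suz := Cfsg.Agent.CTwoTab.Suz.finSuz

theorem center_suz : center Suz = ⊥ := Cfsg.Agent.BpSpor.SuzThree.center_eq

theorem bad5_of_word {y : MulAut Suz} {w u : List Suz.Gen} (h : y (el w) * (el w)⁻¹ = el u) {p q : ℕ}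
    (h1 : mv (wd u) p q = true) (hpq : p ≠ q) (h2 : checkEq 11 (wd (u ++ (u ++ (u ++ (u ++ u))))) [] = true) :
    BadS 5 y := by
  have : Fact (Nat.Prime 5) := ⟨Nat.prime_five⟩
  refine ⟨el w, ?_⟩
  rw [h, orderOf_eq_prime (p := 5) ?_ (Cfsg.Agent.H799.PiBS.Suz.ne_one_of h1 hpq)]
  rw [← el_eq_one h2]
  simp only [el_append, pow_succ, pow_zero, one_mul, mul_assoc]

open Cfsg.Agent.H799.PiBS.Suz (comm_conj comm_rho comm_sigma)

theorem bad_a : BadS 5 (MulAut.conj (el [.a])) :=
  bad5_of_word (w := [.b]) (comm_conj _ _) (p := 1) (q := 5) (by decide +kernel) (by norm_num) (by decide +kernel)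

theorem bad_e : BadS 5 (MulAut.conj (el [.e])) :=
  bad5_of_word (w := [.d, .c, .b, .d, .c, .d]) (comm_conj _ _) (p := 1) (q := 228)
    (by decide +kernel) (by norm_num) (by decide +kernel)

theorem bad_rho : BadS 5 rho :=
  bad5_of_word (w := [.f, .b, .g]) (comm_rho _) (p := 0) (q := 2) (by decide +kernel) (by norm_num)
    (by decide +kernel)

theorem bad_sigma : BadS 5 σσ :=
  bad5_of_word (w := [.f, .b, .g]) (comm_sigma _) (p := 0) (q := 2) (by decide +kernel) (by norm_num)
    (by decide +kernel)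

theorem inv5 : ∀ x : MulAut Suz, orderOf x = 2 → BadS 5 x := by
  intro x hx
  have hxx : x * x = 1 := by rw [← pow_two, ← hx, pow_orderOf_eq_one]
  by_cases hi : ∃ s, x = MulAut.conj s
  · obtain ⟨s, rfl⟩ := hi
    have hs : orderOf s = 2 := by rwa [orderOf_injective _ (conj_inj center_suz)] at hx
    have hss : s * s = 1 := by rw [← pow_two, ← hs, pow_orderOf_eq_one]
    have hs1 : s ≠ 1 := by
      rintro rfl
      rw [orderOf_one] at hs
      omega
    rcases Cfsg.Agent.CTwoTab.Suz.classes hss hs1 with h | h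
    · exact bad_a.inner h
    · exact bad_e.inner h
  · push Not at hi
    rcases Cfsg.Agent.KFacts.SuzInvol.outer hxx hi with ⟨g, h⟩ | ⟨g, h⟩
    · rw [h]
      exact bad_rho.conj _
    · have h2 : x = MulAut.conj (g * (el [.e, .d])⁻¹) * σσ * (MulAut.conj (g * (el [.e, .d])⁻¹))⁻¹ := by
        rw [h, Cfsg.Agent.KFacts.SuzInvol.sigma_eq, map_mul, map_inv]
        group
      rw [h2]
      exact bad_sigma.conj _

theorem inv3 : ∀ x : MulAut Suz, orderOf x = 2 → BadS 3 x := fun x hx =>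
  Cfsg.Agent.H799.PiBS.Suz.inv3_model x hx

/-! ### `G₂(4)` -/

/-- the subgroup `⟨a, …, f⟩` of `Suz` -/
def H : Subgroup Suz := Subgroup.closure (Set.range Cfsg.Agent.SporRec.G24Suz.xs)

theorem H_equiv : ∃ (K : Type) (_ : Field K) (_ : Fintype K), Fintype.card K = 4 ∧
    Nonempty (H ≃* Cfsg.Lie.chevG2.group K) := by
  obtain ⟨K, i1, i2, hK, ⟨e⟩⟩ := Cfsg.Agent.S1679.result
  refine ⟨K, i1, i2, hK, ⟨(MulEquiv.subgroupCongr ?_).trans e⟩⟩
  exact Cfsg.Agent.SporRec.G24Suz.map_closure_eq.symm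

theorem H_simple : IsSimpleGroup H := by
  obtain ⟨K, i1, i2, hK, ⟨e⟩⟩ := H_equiv
  have hK3 : ∃ a : K, a ≠ 0 ∧ a ≠ 1 := by
    classical
    by_contra h
    push Not at h
    have h1 : (Finset.univ : Finset K) ⊆ {0, 1} := by
      intro a _
      by_cases ha : a = 0
      · simp [ha]
      · simp [h a ha]
    have h2 := Finset.card_le_card h1
    rw [Finset.card_univ, hK] at h2
    have h3 : ({0, 1} : Finset K).card ≤ 2 := Finset.card_le_two
    omega
  obtain ⟨h1, h2⟩ := Cfsg.Agent.S1055.result hK3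
  have := h1
  have : Nontrivial H := e.toEquiv.nontrivial
  exact IsSimpleGroup.isSimpleGroup_of_surjective e.symm.toMonoidHom e.symm.surjective

theorem H_index : H.index = 1782 := by
  have := Cfsg.Agent.S1680.result.1
  rwa [Cfsg.Agent.SporRec.G24Suz.map_closure_eq] at this

theorem H_card : Nat.card H = 251596800 := by
  have h2 := H.card_mul_index
  rw [H_index, card_Suz] at h2
  omega

theorem H_ne : H ≠ ⊤ := by
  intro h
  have h1 := H_index
  rw [h, index_top] at h1
  norm_num at h1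

theorem ni_H {s p : ℕ} (hs : s.Prime) (hp : p.Prime) (hps : p ≠ s) (hd : s ∣ 251596800) (hi : ¬ p ∣ 1782) :
    NI s p Suz := by
  have := finSuz
  exact NI.of_index_simple hs hp hps H_ne (by rwa [H_index]) H_simple (by rwa [H_card])

/-! ### `3⁵ : M₁₁` -/

theorem NA_index : NA.index = 232960 := by
  have h := Subgroup.card_mul_index NA
  rw [card_NA, card_Suz] at h
  omega

theorem NA_ne : NA ≠ ⊤ := by
  intro h
  have h1 := NA_index
  rw [h, index_top] at h1
  norm_num at h1

theorem Q_simple : IsSimpleGroup (NA ⧸ A0.subgroupOf NA) := Cfsg.Agent.Cit.ElevenFact.simple isoM11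

theorem Q_card : Nat.card (NA ⧸ A0.subgroupOf NA) = 7920 := by
  obtain ⟨e⟩ := isoM11
  rw [Nat.card_congr e.toEquiv, HNType.Alt.card_M11]

theorem Q_core {s : ℕ} (hs : s.Prime) (hd : s ∣ 7920) : pPrimeCore s (NA ⧸ A0.subgroupOf NA) = ⊥ := by
  have := finSuz
  have := Q_simple
  exact core_eq_bot_of_simple hs (by rwa [Q_card])

theorem ni_eleven {s : ℕ} (hs : s.Prime) (hps : 11 ≠ s) (hd : s ∣ 7920) : NI s 11 Suz := by
  have := finSuz
  refine NI.of_index_hom hs (by norm_num) hps NA_ne (by rw [NA_index]; norm_num)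
    (QuotientGroup.mk' (A0.subgroupOf NA)) (QuotientGroup.mk'_surjective _) (Q_core hs hd) ?_
  rw [QuotientGroup.ker_mk', Nat.card_congr (subgroupOfEquivOfLe (le_normalizer (H := A0))).toEquiv, card_A0]
  norm_num

/-! ### elements of order 3 -/

/-- `O_{5'}(C(z₀))` is contained in `Q₀` -/
theorem core_le : coreIn 5 C1 ≤ Q0 := by
  have := finSuz
  set R := coreIn 5 C1 with hR
  have hn : ∀ p ∈ C1, ∀ n ∈ R ⊔ Q0, p * n * p⁻¹ ∈ R ⊔ Q0 := by
    intro p hp n hn
    have h3 : R ⊔ Q0 ≤ (R ⊔ Q0).comap (MulAut.conj p).toMonoidHom := by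
      refine sup_le ?_ ?_
      · intro c hc
        exact (le_sup_left : R ≤ R ⊔ Q0) (coreIn_conj_mem hp hc)
      · intro c hc
        exact (le_sup_right : Q0 ≤ R ⊔ Q0)
          (Cfsg.Agent.KFacts.SuzLarge.large.conj_mem p (mem_C1.1 hp) _ hc)
    exact h3 hn
  rcases Cfsg.Agent.KFacts.SuzSheetM.normal_cases (N := R ⊔ Q0) (sup_le (coreIn_le _) Q0_le) le_sup_right hn with h | h
  · exact (le_sup_left : R ≤ R ⊔ Q0).trans h
  · exfalso
    have e : pPrimeCore 5 C1 ⊔ Q0.subgroupOf C1 = ⊤ := by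
      apply Subgroup.map_injective C1.subtype_injective
      rw [Subgroup.map_sup, subgroupOf_map_subtype, inf_eq_left.2 Q0_le, ← MonoidHom.range_eq_map, range_subtype]
      exact h
    have h1 := Cfsg.Agent.Lib.Cores.card_sup_dvd (pPrimeCore 5 C1) (Q0.subgroupOf C1)
      (Lib.Cores.pPrimeCore_normal 5)
    rw [e, card_top, Cfsg.Agent.SuzThree.CentCard.card_C1] at h1
    have h2 : 5 ∣ Nat.card (pPrimeCore 5 C1) * Nat.card (Q0.subgroupOf C1) :=
      Nat.dvd_trans (by norm_num) h1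
    have h5 : Nat.Prime 5 := Nat.prime_five
    rcases h5.dvd_mul.1 h2 with h3 | h3
    · exact absurd (Nat.Coprime.eq_one_of_dvd (Lib.Cores.pPrimeCore_coprime (G := C1) 5).symm h3) (by norm_num)
    · rw [Nat.card_congr (subgroupOfEquivOfLe Q0_le).toEquiv] at h3
      obtain ⟨n, hn⟩ := IsPGroup.iff_card.1 isPGroup_Q0
      rw [hn] at h3
      exact absurd (h5.dvd_of_dvd_pow h3) (by norm_num)

theorem not_mem_Q0 {g : Suz} (hg : orderOf g = 3) (h : g ∈ Q0) : False := by
  obtain ⟨k, hk⟩ := (IsPGroup.iff_orderOf.1 isPGroup_Q0) ⟨g, h⟩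
  rw [Subgroup.orderOf_mk, hg] at hk
  have h3 : 3 ∣ 2 ^ k := by rw [← hk]
  exact absurd (Nat.prime_three.dvd_of_dvd_pow h3) (by norm_num)

theorem ni_three : NI 5 3 Suz := by
  have := finSuz
  refine NI.of_one_hom (s := 5) Nat.prime_five Nat.prime_three (by norm_num) NA_ne (by rw [NA_index]; norm_num)
    (QuotientGroup.mk' (A0.subgroupOf NA)) (QuotientGroup.mk'_surjective _)
    (by rw [Q_core Nat.prime_five (by norm_num), Subgroup.card_bot]; norm_num) ?_
  intro g hg hgk hPC _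
  have hgA : g ∈ A0 := by
    obtain ⟨m, hm, rfl⟩ := hgk
    have hm' : QuotientGroup.mk' (A0.subgroupOf NA) m = 1 := hm
    exact mem_subgroupOf.1 ((QuotientGroup.eq_one_iff _).1 hm')
  have h2 := Cfsg.Agent.H681.NoBadSuz.even_A0 hgA
  have : Fact (Nat.Prime 2) := ⟨Nat.prime_two⟩
  obtain ⟨z, hz⟩ := exists_prime_orderOf_dvd_card' 2 h2
  have hzo : orderOf (z : Suz) = 2 := by rw [Subgroup.orderOf_coe, hz]
  have hzg : (z : Suz) * g = g * z := mem_centralizer_singleton_iff.1 z.2
  have hzz : (z : Suz) * z = 1 := by rw [← pow_two, ← hzo, pow_orderOf_eq_one]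
  have hz1 : (z : Suz) ≠ 1 := by
    intro h
    rw [h, orderOf_one] at hzo
    omega
  have key : ∀ t : Suz, IsConj t (z : Suz) → ∃ c : Suz, c * g * c⁻¹ * t = t * (c * g * c⁻¹) := by
    intro t ht
    obtain ⟨c, hc⟩ := isConj_iff.1 ht
    refine ⟨c⁻¹, ?_⟩
    have e : t = c⁻¹ * z * c := by rw [← hc]; group
    rw [e]
    calc c⁻¹ * g * c⁻¹⁻¹ * (c⁻¹ * z * c) = c⁻¹ * (g * z) * c := by group
      _ = c⁻¹ * (z * g) * c := by rw [hzg]
      _ = c⁻¹ * z * c * (c⁻¹ * g * c⁻¹⁻¹) := by group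
  rcases Cfsg.Agent.CTwoTab.Suz.classes hzz hz1 with h | h
  · obtain ⟨c, hc⟩ := key _ h
    have hC1 : C1 ≠ ⊤ := by
      intro h
      have h1 := Cfsg.Agent.SuzThree.CentCard.card_C1
      rw [h, card_top, card_Suz] at h1
      norm_num at h1
    have ho : orderOf (c * g * c⁻¹) = 3 := by rw [orderOf_conj', hg]
    exact not_mem_Q0 ho (core_le ((pc_conj_elt c hPC).mem_coreIn Nat.prime_three (by norm_num) Nat.prime_five ho hC1
      (mem_C1.2 hc)))
  · obtain ⟨c, hc⟩ := key _ h
    have ho : orderOf (c * g * c⁻¹) = 3 := by rw [orderOf_conj', hg]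
    have hL : c * g * c⁻¹ ∈ L := H812.SuzLoc.mem_L_of_odd (Cfsg.Agent.KFacts.SuzTwoB.mem_CE.2 hc)
      (n := 3) (by decide) (by rw [← ho, pow_orderOf_eq_one])
    have hcL : Nat.card L = 20160 := Cfsg.Agent.KFacts.SuzTwoB.card_L
    refine false_of_simple Nat.prime_five Nat.prime_three (by norm_num) ho (pc_conj_elt c hPC) (M := L) ?_ hL
      Cfsg.Agent.CTwoTab.SuzPlane.simple_L (by rw [hcL]; norm_num)
    intro h
    rw [h, card_top, card_Suz] at hcL
    norm_num at hcL

theorem primes {p : ℕ} (hp : p.Prime) (hd : p ∣ Nat.card Suz) : p = 2 ∨ p = 3 ∨ p = 5 ∨ p = 7 ∨ p = 11 ∨ p = 13 := by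
  rw [card_Suz] at hd
  have h4 : p ∈ (448345497600 : ℕ).primeFactors := Nat.mem_primeFactors.2 ⟨hp, hd, by norm_num⟩
  have h5 : (448345497600 : ℕ).primeFactors = {2, 3, 5, 7, 11, 13} := by
    rw [show (448345497600 : ℕ) = 2 ^ 13 * (3 ^ 7 * (5 ^ 2 * (7 * (11 * 13)))) by norm_num,
      Nat.primeFactors_mul (by norm_num) (by norm_num), Nat.primeFactors_mul (by norm_num) (by norm_num),
      Nat.primeFactors_mul (by norm_num) (by norm_num), Nat.primeFactors_mul (by norm_num) (by norm_num),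
      Nat.primeFactors_mul (by norm_num) (by norm_num),
      Nat.primeFactors_prime_pow (by norm_num) (by norm_num), Nat.primeFactors_prime_pow (by norm_num) (by norm_num),
      Nat.primeFactors_prime_pow (by norm_num) (by norm_num), Nat.Prime.primeFactors (by norm_num),
      Nat.Prime.primeFactors (by norm_num), Nat.Prime.primeFactors (by norm_num)]
    rfl
  rw [h5] at h4
  simpa using h4

theorem ncs3 : NCs 3 Suz := by
  have := finSuz
  refine ncs_of center_suz (fun p hp hps => ?_) (out_two Cfsg.Agent.KFacts.SuzOut.index_eq) (NO.of_bad center_suz inv3)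
  by_cases hd : p ∣ Nat.card Suz
  · rcases primes hp hd with rfl | rfl | rfl | rfl | rfl | rfl
    · exact NI.of_bad center_suz inv3
    · exact absurd rfl hps
    · exact ni_H (by norm_num) hp hps (by norm_num) (by norm_num)
    · exact ni_H (by norm_num) hp hps (by norm_num) (by norm_num)
    · exact ni_eleven (by norm_num) hps (by norm_num)
    · exact ni_H (by norm_num) hp hps (by norm_num) (by norm_num)
  · exact NI.of_not_dvd hd

theorem ncs5 : NCs 5 Suz := by
  have := finSuz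
  refine ncs_of center_suz (fun p hp hps => ?_) (out_two Cfsg.Agent.KFacts.SuzOut.index_eq) (NO.of_bad center_suz inv5)
  by_cases hd : p ∣ Nat.card Suz
  · rcases primes hp hd with rfl | rfl | rfl | rfl | rfl | rfl
    · exact NI.of_bad center_suz inv5
    · exact ni_three
    · exact absurd rfl hps
    · exact ni_H (by norm_num) hp hps (by norm_num) (by norm_num)
    · exact ni_eleven (by norm_num) hps (by norm_num)
    · exact ni_H (by norm_num) hp hps (by norm_num) (by norm_num)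
  · exact NI.of_not_dvd hd

end Suz

/-- **the Suzuki group** -/
theorem ncs_Suz {K : Type*} [Group K] [Finite K] (h : Spor.IsoSuz K) : NCs 3 K ∧ NCs 5 K := by
  have := Suz.finSuz
  obtain ⟨e⟩ := h
  exact ⟨ncs_congr e.symm Suz.ncs3, ncs_congr e.symm Suz.ncs5⟩

end Cfsg.Agent.H70.PiSpor
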